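import Cfsg.Agent.Fi23Spider.Cover
import Cfsg.Agent.Fi23Spider.CK.Member

/-!
# The end of the long arm

On the diagram Y532 with the spider relation alone, the end node of the long arm is the ninth power of a
Coxeter element of type E7.
-/

set_option autoImplicit false
set_option maxRecDepth 100000
set_option maxHeartbeats 2000000

namespace Cfsg.Agent.Fi23Spider

open Cfsg.Spor Cfsg.Agent.CosetCert
open Cfsg.Agent.Fi23Centralizer (rels23)
open Cfsg.Agent.Fi23Mult (sgn genList mem_genList lab AW UW SW)

/-- The edges of Y532: one more node beyond `j`. -/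
def edges5 : List (Option Fi23.Gen × ℕ × Option Fi23.Gen) :=
  Fi23.edges.map (fun e => (some e.1, e.2.1, some e.2.2)) ++ [(some .j, 3, none)]

/-- The generators of Y532. -/
def genList5 : List (Option Fi23.Gen) := none :: genList.map some

/-- The relators of Y532 with the spider. -/
def RL5 : List (List (Option Fi23.Gen × Bool)) :=
  (genList5.flatMap fun x => genList5.map fun y => powPair x y (coxLabel edges5 x y)) ++
    (List.range 9).map fun n => sgn ((SW.rotate n).map some)

/-- The Coxeter element word of the arm relation. -/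
def W1 : List Fi23.Gen := (List.replicate 9 [.d, .e, .c, .h, .f, .b, .g]).flatten

theorem mem_genList5 (x : Option Fi23.Gen) : x ∈ genList5 := by
  cases x with
  | none => exact List.mem_cons_self
  | some x => exact List.mem_cons_of_mem _ (List.mem_map_of_mem (mem_genList x))

theorem pair5 (x y : Option Fi23.Gen) :
    PresentedGroup.mk (wordRels RL5) (FreeGroup.mk (powPair x y (coxLabel edges5 x y))) = 1 :=
  PresentedGroup.one_of_mem (List.mem_map_of_mem (List.mem_append_left _
    (List.mem_flatMap.2 ⟨x, mem_genList5 x, List.mem_map_of_mem (mem_genList5 y)⟩)))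

/-- A word of the certificate that holds in `P`. -/
noncomputable def derivedB (l : List (Fin 11 × Bool)) : Bool :=
  decide (l.map (fun a => (CK.ren a.1, a.2)) = sgn ((l.filterMap fun a => CK.ren a.1).map some)) &&
    ((l.filterMap fun a => CK.ren a.1).length % 2 == 0) &&
    bases.all fun b => Nat.beq
      (Fi23Index31671.data.fwd ((sgn (l.filterMap fun a => CK.ren a.1)).map
        (Data.code Fi23Index31671.data.iv Fi23Index31671.enc)) b) b

theorem relWords_ok : (CK.relWords.all fun l =>
    decide (l.map (fun a => (CK.ren a.1, a.2)) ∈ RL5) || derivedB l) = true := by decide +kernel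

/-- The end node is the word. -/
theorem arm : wd (wordRels RL5) [none] = wd (wordRels RL5) (W1.map some) := by
  obtain ⟨π, ε, hπ, hε, hπA, hcen, hker⟩ := cover
  obtain ⟨θ, hθ⟩ := exists_rename (rels := wordRels RL5) RLP some fun l hl =>
    PresentedGroup.one_of_mem (List.mem_map_of_mem (of_decide_eq_true (List.all_eq_true.1
      (by decide +kernel : (RLP.all fun l => decide (l.map (fun a => (some a.1, a.2)) ∈ RL5)) = true)
      l hl)))
  obtain ⟨ε5, hε5⟩ := exists_parity RL5 (by decide +kernel)
  have hθw : ∀ w : List Fi23.Gen, θ (wp w) = wd (wordRels RL5) (w.map some) := fun w => by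
    rw [wp, wd, hθ, FreeGroup.map.mk]
    congr 2
    simp [sgn]
  have hεθ : ∀ x, ε5 (θ x) = ε x := by
    have : ε5.comp θ = ε := PresentedGroup.ext fun y => by
      show ε5 (θ (wp [y])) = ε (wp [y])
      rw [hθw, hε, wd, hε5]
      rfl
    exact fun x => DFunLike.congr_fun this x
  -- equal images and parities
  have heq : ∀ x y, π x = π y → ε x = ε y → x = y := fun x y h1 h2 =>
    mul_inv_eq_one.1 (hker _ (by rw [map_mul, map_inv, h1, mul_inv_cancel])
      (by rw [map_mul, map_inv, h2, mul_inv_cancel]))
  -- the end node lies in the image of `P`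
  have hrels : ∀ l ∈ CK.relWords, PresentedGroup.mk (wordRels RL5)
      (FreeGroup.mk (l.map fun a => (CK.ren a.1, a.2))) = 1 := by
    intro l hl
    rcases Bool.or_eq_true_iff.1 (List.all_eq_true.1 relWords_ok l hl) with h | h
    · exact PresentedGroup.one_of_mem (List.mem_map_of_mem (of_decide_eq_true h))
    · simp only [derivedB, Bool.and_eq_true] at h
      obtain ⟨⟨h1, h2⟩, h3⟩ := h
      rw [of_decide_eq_true h1]
      show wd (wordRels RL5) ((l.filterMap fun a => CK.ren a.1).map some) = 1
      rw [← hθw, show wp (l.filterMap fun a => CK.ren a.1) = 1 from hker _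
        ((hπ _).trans (el_one_of_base _ h3)) (by
          rw [hε, (ZMod.natCast_eq_zero_iff_even).2 (Nat.even_iff.2 (eq_of_beq h2)), ofAdd_zero]),
        map_one]
  obtain ⟨p, hp⟩ : ∃ p, θ p = wd (wordRels RL5) [none] := by
    have hm := member_map CK.ren CK.subLetters _ rfl hrels CK.word CK.member
    have hle : letterSub (wordRels RL5) (CK.subLetters.map CK.ren) ≤ θ.range := by
      rw [letterSub, Subgroup.closure_le]
      rintro g ⟨b, hb, rfl⟩
      have hs : ∀ b ∈ CK.subLetters.map CK.ren, b.isSome = true := by decide +kernel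
      obtain ⟨x, rfl⟩ := Option.isSome_iff_exists.1 (hs b hb)
      exact ⟨wp [x], hθw [x]⟩
    exact hle hm
  have hεp : ε p = ε (wp W1) := by
    rw [← hεθ, hp, hε, wd, hε5]
    decide
  have hπsurj : Function.Surjective π := by
    intro g
    have hg : g ∈ Subgroup.closure (Set.range (PresentedGroup.of : Fi23.Gen → Fi23)) := by
      rw [PresentedGroup.closure_range_of]; trivial
    have hle : Subgroup.closure (Set.range (PresentedGroup.of : Fi23.Gen → Fi23)) ≤ π.range := by
      rw [Subgroup.closure_le]
      rintro _ ⟨x, rfl⟩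
      exact ⟨wp [x], hπ _⟩
    exact hle hg
  have hMn : (θ.ker.map π).Normal := Subgroup.Normal.map inferInstance π hπsurj
  have : IsSimpleGroup Fi23 := Fi23Order.order_and_simple.1
  rw [← hθw, ← hp]
  rcases hMn.eq_bot_or_eq_top with hbot | htop
  · have hinj : ∀ x y, θ x = θ y → x = y := by
      intro x y h
      have hn : x * y⁻¹ ∈ θ.ker := by rw [MonoidHom.mem_ker, map_mul, map_inv, h, mul_inv_cancel]
      refine mul_inv_eq_one.1 (hker _ ?_ ?_)
      · have := Subgroup.mem_map_of_mem π hn
        rwa [hbot, Subgroup.mem_bot] at this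
      · rw [← hεθ, MonoidHom.mem_ker.1 hn, map_one]
    have hsq5 : ∀ x : Option Fi23.Gen, wd (wordRels RL5) [x] * wd (wordRels RL5) [x] = 1 := by
      intro x
      rw [← wd_append]
      have h := pair5 x x
      rwa [show coxLabel edges5 x x = 1 from by simp [coxLabel]] at h
    have hcomm5 : ∀ x : Fi22.Gen, Commute (θ p) (θ (wp [Fi23Centralizer.toGen x])) := by
      intro x
      rw [hp, hθw, List.map_cons, List.map_nil]
      have hlab : coxLabel edges5 none (some (Fi23Centralizer.toGen x)) = 2 := by
        cases x <;> decide +kernel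
      have h := pair5 none (some (Fi23Centralizer.toGen x))
      rw [hlab] at h
      have h' : wd (wordRels RL5) ([none] ++ ([some (Fi23Centralizer.toGen x)] ++
          ([none] ++ [some (Fi23Centralizer.toGen x)]))) = 1 := h
      rw [wd_append, wd_append, wd_append] at h'
      generalize wd (wordRels RL5) [none] = k, wd (wordRels RL5) [some (Fi23Centralizer.toGen x)] = y,
        hsq5 none = hk, hsq5 (some (Fi23Centralizer.toGen x)) = hy at h'
      show k * y = y * k
      calc k * y = k * (y * (k * y)) * (y * k) := by
            simp only [mul_assoc]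
            rw [← mul_assoc y y k, hy, one_mul, hk, mul_one]
        _ = y * k := by rw [h', one_mul]
    have hcp : ∀ x : Fi22.Gen, Commute (π p) (PresentedGroup.of (Fi23Centralizer.toGen x)) := by
      intro x
      have h : p * wp [Fi23Centralizer.toGen x] = wp [Fi23Centralizer.toGen x] * p :=
        hinj _ _ (by rw [map_mul, map_mul]; exact (hcomm5 x).eq)
      have h' := congrArg π h
      rw [map_mul, map_mul, wp, wd, hπ] at h'
      exact h'
    rcases centralizer_H _ hcp with h | h
    · exfalso
      have hpA : p = wp AW := heq _ _ (h.trans hπA.symm) (hεp.trans (by rw [hε, hε]; decide))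
      have hj : Commute (θ p) (θ (wp [Fi23.Gen.j])) := by
        rw [hpA]
        exact ((map_mul θ _ _).symm.trans ((congrArg θ (hcen _).symm).trans (map_mul θ _ _)) :)
      rw [hp, hθw, List.map_cons, List.map_nil] at hj
      have h3 := pair5 none (some .j)
      rw [show coxLabel edges5 none (some Fi23.Gen.j) = 3 by decide +kernel] at h3
      have h3' : wd (wordRels RL5) ([none] ++ ([some Fi23.Gen.j] ++ ([none] ++ ([some Fi23.Gen.j] ++
          ([none] ++ [some Fi23.Gen.j]))))) = 1 := h3
      rw [wd_append, wd_append, wd_append, wd_append, wd_append] at h3'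
      have hkj : wd (wordRels RL5) [none] * wd (wordRels RL5) [some Fi23.Gen.j] = 1 := by
        have e : (wd (wordRels RL5) [none] * wd (wordRels RL5) [some Fi23.Gen.j]) ^ 3 = 1 := by
          rw [pow_succ, pow_two]; simpa [mul_assoc] using h3'
        have e2 : (wd (wordRels RL5) [none] * wd (wordRels RL5) [some Fi23.Gen.j]) ^ 2 = 1 := by
          rw [hj.mul_pow, pow_two, pow_two, hsq5, hsq5, one_mul]
        rwa [pow_succ, e2, one_mul] at e
      have hkeq : wd (wordRels RL5) [none] = wd (wordRels RL5) [some Fi23.Gen.j] := by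
        rw [eq_inv_of_mul_eq_one_left hkj]
        exact inv_eq_of_mul_eq_one_right (hsq5 _)
      have : p = wp [Fi23.Gen.j] := hinj _ _ (by rw [hp, hθw]; exact hkeq)
      rw [this, wp, wd, hπ] at h
      exact el_ne [.j] 0 (by decide) (by decide +kernel) h
    · refine congrArg θ (heq _ _ ?_ hεp)
      rw [h, wp, wd, hπ]
      exact el_eq UW W1 (by decide +kernel)
  · obtain ⟨n, hn, hnp⟩ := Subgroup.mem_map.1
      (htop ▸ Subgroup.mem_top (π (p * (wp W1)⁻¹)) : π (p * (wp W1)⁻¹) ∈ θ.ker.map π)
    have : p * (wp W1)⁻¹ = n := heq _ _ hnp.symm (by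
      rw [map_mul, map_inv, hεp, mul_inv_cancel, ← hεθ, MonoidHom.mem_ker.1 hn, map_one])
    rw [← mul_inv_eq_one, ← map_inv, ← map_mul, this]
    exact hn

end Cfsg.Agent.Fi23Spider
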