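import Cfsg.Agent.Fi23Mult.Lift
import Cfsg.Agent.Fi23Centralizer.Main
import Cfsg.Agent.HeFacts.CentBound

/-!
Elements of Fi23 are determined on five base points, and the centralizer of `2·Fi22` is its centre.
-/

set_option autoImplicit false
set_option maxRecDepth 100000
set_option maxHeartbeats 2000000

namespace Cfsg.Agent.Fi23Spider

open Cfsg.Spor Cfsg.Agent.CosetCert
open Cfsg.Agent.Fi23Centralizer (rels23)
open Cfsg.Agent.Fi23Mult (sgn UW)

open Data in
/-- In a valid table the words fixing the base point are those of the subgroup. -/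
theorem fix_base_iff {β : Type*} [DecidableEq β] {D : Data} {rels : Set (FreeGroup β)}
    {Sg : List (FreeGroup β)} {enc : β → Nat} {dec : Nat → β × Bool} {RL : List (List (β × Bool))}
    (h : D.Valid) (S : Spells D rels Sg enc dec RL)
    (φ : PresentedGroup rels →* Equiv.Perm (Fin D.n))
    (π : Fin D.n ≃ PresentedGroup rels ⧸ Data.sub rels Sg)
    (hπ : ∀ g c, π (φ g c) = g • π c)
    (hfwd : ∀ (l : List (β × Bool)) (c : Fin D.n),
      (((φ (PresentedGroup.mk rels (FreeGroup.mk l)))⁻¹ c : Fin D.n) : Nat) =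
        D.fwd (l.map (code D.iv enc)) c)
    (g : PresentedGroup rels) :
    φ g ⟨0, h.n_pos⟩ = ⟨0, h.n_pos⟩ ↔ g ∈ Data.sub rels Sg := by
  let c0 : Fin D.n := ⟨0, h.n_pos⟩
  have hstab : ∀ g ∈ Data.sub rels Sg, φ g c0 = c0 := by
    intro g hg
    obtain ⟨s, hs, rfl⟩ := Subgroup.mem_map.1 hg
    induction hs using Subgroup.closure_induction with
    | mem s hs =>
      have h1 := hfwd s.toWord c0
      rw [FreeGroup.mk_toWord] at h1
      have h2 : (s.toWord.map (code D.iv enc)) ∈ D.W.drop D.nR :=
        S.drop_eq ▸ List.mem_map_of_mem hs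
      rw [Nat.eq_of_beq_eq_true (List.all_eq_true.1 h.subs _ h2)] at h1
      exact (Equiv.Perm.inv_eq_iff_eq.1 (Fin.ext h1)).symm
    | one => simp
    | mul x y hx hy h1 h2 =>
      simp [h1 (Subgroup.mem_map_of_mem _ hx), h2 (Subgroup.mem_map_of_mem _ hy)]
    | inv x hx h1 =>
      rw [map_inv, map_inv, Equiv.Perm.inv_eq_iff_eq]
      exact (h1 (Subgroup.mem_map_of_mem _ hx)).symm
  refine ⟨fun hg => ?_, hstab g⟩
  let _ : MulAction (PresentedGroup rels) (Fin D.n) := MulAction.compHom _ φ
  have hle : Data.sub rels Sg ≤ MulAction.stabilizer (PresentedGroup rels) c0 := hstab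
  have horb : MulAction.orbit (PresentedGroup rels) c0 = Set.univ := by
    refine Set.eq_univ_of_forall fun c => ?_
    obtain ⟨x, hx⟩ := QuotientGroup.mk_surjective (π c0)
    obtain ⟨y, hy⟩ := QuotientGroup.mk_surjective (π c)
    refine ⟨y * x⁻¹, π.injective ?_⟩
    show π (φ _ c0) = π c
    rw [hπ, ← hx, ← hy]
    show ((y * x⁻¹ * x : PresentedGroup rels) : PresentedGroup rels ⧸ Data.sub rels Sg) = _
    rw [inv_mul_cancel_right]
  have h1 := Subgroup.relIndex_mul_index hle
  rw [MulAction.index_stabilizer, horb, Set.ncard_univ, Nat.card_fin, Data.index_eq h S] at h1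
  exact Subgroup.relIndex_eq_one.1 ((Nat.mul_eq_right (Nat.pos_iff_ne_zero.1 h.n_pos)).1 h1) hg

/-- The element of Fi23 of a word. -/
abbrev el (l : List Fi23.Gen) : Fi23 := PresentedGroup.mk rels23 (FreeGroup.mk (sgn l))

/-- The bases of the orbit levels. -/
noncomputable def bases : List Nat := Fi23Order.levels.map Data.Level.base

theorem exists_based :
    ∃ (φ : PresentedGroup rels23 →* Equiv.Perm (Fin Fi23Index31671.data.n))
      (π : Fin Fi23Index31671.data.n ≃ PresentedGroup rels23 ⧸ Fi23Centralizer.H),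
      Function.Injective φ ∧ (∀ g c, π (φ g c) = g • π c) ∧
      (∀ (l : List (Fi23.Gen × Bool)) (c : Fin Fi23Index31671.data.n),
        (((φ (PresentedGroup.mk rels23 (FreeGroup.mk l)))⁻¹ c : Fin Fi23Index31671.data.n) : Nat) =
          Fi23Index31671.data.fwd
            (l.map (Data.code Fi23Index31671.data.iv Fi23Index31671.enc)) c) ∧
      ∀ g, (∀ c : Fin Fi23Index31671.data.n, (c : Nat) ∈ bases → φ g c = c) → g = 1 := by
  have : Finite (PresentedGroup rels23) := Fi23Order.card_bound.1
  obtain ⟨φ, π, hπ, hfwd⟩ := Data.enumeration Fi23Index31671.valid Fi23Index31671.spells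
  have hinj : Function.Injective φ := (Data.order_eq Fi23Index31671.valid Fi23Index31671.spells φ hfwd
    Fi23Order.card_bound.1 Fi23Order.card_bound.2 Fi23Order.levels Fi23Order.levels_ok
    (by decide +kernel)).1
  have hle : Nat.card φ.range ≤ (Fi23Order.levels.map Data.Level.size).prod := by
    refine (Nat.card_le_card_of_surjective _ φ.rangeRestrict_surjective).trans ?_
    exact Fi23Order.card_bound.2.trans (by decide +kernel)
  have hC : Data.CentOK (D := Fi23Index31671.data) [] Fi23Order.levels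
      (Fi23Order.levels.map Data.Level.size) := by
    refine ⟨Or.inl le_rfl, Or.inl le_rfl, Or.inl le_rfl, Or.inl le_rfl, Or.inl le_rfl, trivial⟩
  obtain ⟨-, hbase⟩ := Data.exact_chain Fi23Index31671.valid Fi23Index31671.spells φ hfwd 1 []
    (fun c => by simp) Fi23Order.levels Fi23Order.levels_ok _ hC hle
  refine ⟨φ, π, hinj, hπ, hfwd, fun g hg => hinj ?_⟩
  rw [map_one]
  exact hbase _ ⟨g, rfl⟩ hg

/-- Two positive words are equal in Fi23 when they agree on the bases. -/
theorem el_eq (u v : List Fi23.Gen)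
    (h : (bases.all fun b => Nat.beq
      (Fi23Index31671.data.fwd ((sgn u).map (Data.code Fi23Index31671.data.iv Fi23Index31671.enc)) b)
      (Fi23Index31671.data.fwd ((sgn v).map (Data.code Fi23Index31671.data.iv Fi23Index31671.enc)) b)) = true) :
    el u = el v := by
  obtain ⟨φ, π, -, -, hfwd, hbase⟩ := exists_based
  refine (mul_inv_eq_one (a := el u) (b := el v)).1 (hbase _ fun c hc => ?_)
  have hb := Nat.eq_of_beq_eq_true (List.all_eq_true.1 h _ hc)
  rw [← hfwd, ← hfwd] at hb
  have hb' : (φ (el u))⁻¹ c = (φ (el v))⁻¹ c := Fin.ext hb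
  rw [map_mul, map_inv, Equiv.Perm.mul_apply, ← hb']
  simp

/-- A word that moves a base is not trivial. -/
theorem el_ne (u : List Fi23.Gen) (b : Nat) (hb : b < 31671)
    (h : Nat.beq (Fi23Index31671.data.fwd
      ((sgn u).map (Data.code Fi23Index31671.data.iv Fi23Index31671.enc)) b) b = false) :
    el u ≠ 1 := by
  obtain ⟨φ, π, -, -, hfwd, -⟩ := exists_based
  intro he
  have e := hfwd (sgn u) ⟨b, hb⟩
  rw [show PresentedGroup.mk rels23 (FreeGroup.mk (sgn u)) = 1 from he, map_one, inv_one,
    Equiv.Perm.one_apply] at e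
  exact Nat.ne_of_beq_eq_false h e.symm

theorem u_ne : el UW ≠ 1 :=
  el_ne UW 1 (by decide) (by decide +kernel)

/-- Some generator other than `j` moves the point `c`, unless it is the base point. -/
noncomputable def moved (c : Nat) : Bool :=
  Nat.beq c 0 || ([0, 1, 2, 3, 4, 5, 6, 8, 9] : List Nat).any fun x =>
    !Nat.beq (Fi23Index31671.data.T c x) c

theorem moved_all : allFrom moved 0 31671 = true := by decide +kernel

/-- An element commuting with all generators but `j` is trivial or `(bcdefgh)^9`. -/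
theorem centralizer_H (y : Fi23)
    (h : ∀ x : Fi22.Gen, Commute y (PresentedGroup.of (Fi23Centralizer.toGen x))) :
    y = 1 ∨ y = el UW := by
  obtain ⟨φ, π, -, hπ, hfwd, -⟩ := exists_based
  let p0 : Fin Fi23Index31671.data.n := ⟨0, Fi23Index31671.valid.n_pos⟩
  have hgen : ∀ x : Fi22.Gen, φ (PresentedGroup.of (Fi23Centralizer.toGen x)) p0 = p0 := fun x => by
    refine (fix_base_iff Fi23Index31671.valid Fi23Index31671.spells φ π hπ hfwd _).2 ?_
    exact (Fi23Centralizer.hEl x).2
  have hy : φ y p0 = p0 := by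
    by_contra hne
    have hm := (allFrom_iff moved 0 31671).1 moved_all (φ y p0 : Nat) (Nat.zero_le _)
      (by rw [Nat.zero_add]; exact (φ y p0).2)
    simp only [moved, Bool.or_eq_true] at hm
    rcases hm with hm | hm
    · exact hne (Fin.ext (Nat.eq_of_beq_eq_true hm))
    · obtain ⟨x, hx, hmv⟩ := List.any_eq_true.1 hm
      have hcase : ∃ x' : Fi22.Gen, Fi23Index31671.enc (Fi23Centralizer.toGen x') = x := by
        simp only [List.mem_cons, List.not_mem_nil, or_false] at hx
        rcases hx with rfl | rfl | rfl | rfl | rfl | rfl | rfl | rfl | rfl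
        exacts [⟨.a, rfl⟩, ⟨.b, rfl⟩, ⟨.c, rfl⟩, ⟨.d, rfl⟩, ⟨.e, rfl⟩, ⟨.f, rfl⟩, ⟨.g, rfl⟩,
          ⟨.h, rfl⟩, ⟨.i, rfl⟩]
      obtain ⟨x', rfl⟩ := hcase
      have hfix : φ (PresentedGroup.of (Fi23Centralizer.toGen x')) (φ y p0) = φ y p0 := by
        rw [← Equiv.Perm.mul_apply, ← map_mul, ← (h x').eq, map_mul, Equiv.Perm.mul_apply, hgen]
      have e := hfwd [(Fi23Centralizer.toGen x', true)] (φ y p0)
      rw [show PresentedGroup.mk rels23 (FreeGroup.mk [(Fi23Centralizer.toGen x', true)]) =
        PresentedGroup.of (Fi23Centralizer.toGen x') from rfl, Equiv.Perm.inv_eq_iff_eq.2 hfix.symm,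
        List.map_cons, List.map_nil, Data.fwd_cons, Data.fwd_nil] at e
      rw [show Data.code Fi23Index31671.data.iv Fi23Index31671.enc
        (Fi23Centralizer.toGen x', true) = Fi23Index31671.enc (Fi23Centralizer.toGen x') from rfl] at e
      rw [← e] at hmv
      simp at hmv
  have hyH : y ∈ Fi23Centralizer.H :=
    (fix_base_iff Fi23Index31671.valid Fi23Index31671.spells φ π hπ hfwd y).1 hy
  have huH : el UW ∈ Fi23Centralizer.H := by
    show PresentedGroup.mk rels23 (FreeGroup.mk (sgn UW)) ∈ Fi23Centralizer.H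
    rw [Fi23Mult.zList_eq, ← Fi23Centralizer.z_eq, ← Fi23Centralizer.lift_hEl]
    exact SetLike.coe_mem _
  have hcen : ∀ g (hg : g ∈ Fi23Centralizer.H),
      (∀ x : Fi22.Gen, Commute g (PresentedGroup.of (Fi23Centralizer.toGen x))) →
        (⟨g, hg⟩ : Fi23Centralizer.H) ∈ Subgroup.center Fi23Centralizer.H := by
    intro g hg hc
    rw [Subgroup.mem_center_iff]
    intro k
    have hle : Subgroup.closure (Set.range Fi23Centralizer.hEl) ≤
        Subgroup.centralizer ({⟨g, hg⟩} : Set Fi23Centralizer.H) := by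
      rw [Subgroup.closure_le]
      rintro _ ⟨x, rfl⟩
      rw [SetLike.mem_coe, Subgroup.mem_centralizer_singleton_iff]
      exact Subtype.ext (hc x).symm.eq
    rw [Fi23Centralizer.closure_hEl] at hle
    exact Subgroup.mem_centralizer_singleton_iff.1 (hle (Subgroup.mem_top k))
  have hu := hcen _ huH fun x => by
    show Commute (PresentedGroup.mk rels23 (FreeGroup.mk (sgn UW))) _
    rw [Fi23Mult.zList_eq]
    exact Fi23Centralizer.z_commute x
  have hyc := hcen _ hyH h
  have htwo := Fi23Centralizer.nonsplit_double.1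
  obtain ⟨a, b, hab, hset⟩ := Nat.card_eq_two_iff.1 htwo
  by_contra hn
  push Not at hn
  have key : ∀ z : Subgroup.center Fi23Centralizer.H, z = a ∨ z = b := fun z => by
    have hz : z ∈ ({a, b} : Set _) := hset ▸ Set.mem_univ z
    simpa using hz
  rcases key ⟨_, hu⟩ with h1 | h1 <;> rcases key ⟨_, hyc⟩ with h2 | h2 <;>
    rcases key 1 with h3 | h3
  all_goals first
    | exact hn.2 (congrArg (fun z : Subgroup.center Fi23Centralizer.H =>
        ((z : Fi23Centralizer.H) : Fi23)) (h2.trans h1.symm))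
    | exact hn.1 (congrArg (fun z : Subgroup.center Fi23Centralizer.H =>
        ((z : Fi23Centralizer.H) : Fi23)) (h2.trans h3.symm))
    | exact u_ne (congrArg (fun z : Subgroup.center Fi23Centralizer.H =>
        ((z : Fi23Centralizer.H) : Fi23)) (h1.trans h3.symm))

end Cfsg.Agent.Fi23Spider
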