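import Cfsg.Agent.Fi23Spider.Arm
import Cfsg.Prelude.Def_Spor_M

/-!
# The Y555 diagram with the spider relation alone

The six relations for the end nodes follow from the arm relation of Y532 under the permutations of
the three arms; the spider word in the reversed order of arms follows from the double cover.
-/

set_option autoImplicit false
set_option maxRecDepth 100000
set_option maxHeartbeats 2000000

namespace Cfsg.Agent.Fi23Spider

open Cfsg.Spor Cfsg.Agent.CosetCert
open Cfsg.Agent.Fi23Centralizer (rels23)
open Cfsg.Agent.Fi23Mult (sgn genList lab AW UW SW)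

/-- The relators: the diagram and the one spider word. -/
abbrev relsY : Set (FreeGroup Bimonster.Gen) :=
  coxRelators Bimonster.edges ∪ {r' | r' ∈ [(Bimonster.a * Bimonster.b1 * Bimonster.c1 *
    Bimonster.a * Bimonster.b2 * Bimonster.c2 * Bimonster.a * Bimonster.b3 * Bimonster.c3) ^ 10]}

/-- The nodes of an arm, from the centre outwards. -/
def node : Fin 3 → Fin 5 → Bimonster.Gen
  | 0, 0 => .b1 | 0, 1 => .c1 | 0, 2 => .d1 | 0, 3 => .e1 | 0, 4 => .f1
  | 1, 0 => .b2 | 1, 1 => .c2 | 1, 2 => .d2 | 1, 3 => .e2 | 1, 4 => .f2
  | 2, 0 => .b3 | 2, 1 => .c3 | 2, 2 => .d3 | 2, 3 => .e3 | 2, 4 => .f3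

/-- The spider word with the arms in the order `i`, `j`, `k`. -/
def spiderW (i j k : Fin 3) : List Bimonster.Gen :=
  (List.replicate 10 [.a, node i 0, node i 1, .a, node j 0, node j 1, .a, node k 0, node k 1]).flatten

/-- Y532 in Y555: the long arm on `i`, the middle one on `j`, the short one on `k`. -/
def place (i j k : Fin 3) : Option Fi23.Gen → Bimonster.Gen
  | some .d => .a
  | some .e => node i 0 | some .f => node i 1 | some .g => node i 2 | some .j => node i 3
  | none => node i 4
  | some .c => node j 0 | some .b => node j 1 | some .a => node j 2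
  | some .h => node k 0 | some .i => node k 1

theorem nodes_all (x : Bimonster.Gen) : x ∈ coxNodes Bimonster.edges := by
  cases x <;> decide +kernel

theorem pairY (x y : Bimonster.Gen) :
    PresentedGroup.mk relsY (FreeGroup.mk (powPair x y (coxLabel Bimonster.edges x y))) = 1 :=
  PresentedGroup.one_of_mem (Or.inl ⟨x, nodes_all x, y, nodes_all y, mk_powPair x y _⟩)

theorem spider123 : wd relsY (spiderW 0 1 2) = 1 :=
  PresentedGroup.one_of_mem (Or.inr (by
    show FreeGroup.mk (sgn (spiderW 0 1 2)) ∈ [(Bimonster.a * Bimonster.b1 * Bimonster.c1 *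
      Bimonster.a * Bimonster.b2 * Bimonster.c2 * Bimonster.a * Bimonster.b3 * Bimonster.c3) ^ 10]
    decide +kernel))

/-- The spider relation holds with the arms in any order. -/
theorem spider_all (i j k : Fin 3) (hij : i ≠ j) (hjk : j ≠ k) (hik : i ≠ k) :
    wd relsY (spiderW i j k) = 1 := by
  obtain ⟨π, ε, hπ, hε, -, -, hker⟩ := cover
  -- the middle arm of the cover on the first arm
  let f : Fi23.Gen → Bimonster.Gen := fun x => place 1 0 2 (some x)
  obtain ⟨ψ, hψ⟩ := exists_rename (rels := relsY) RLP f fun l hl => by
    rcases List.mem_append.1 hl with hl | hl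
    · obtain ⟨x, -, hl⟩ := List.mem_flatMap.1 hl
      obtain ⟨y, -, rfl⟩ := List.mem_map.1 hl
      have hlab : ∀ x y : Fi23.Gen, (powPair x y (coxLabel Fi23.edges x y)).map (fun a => (f a.1, a.2)) =
          powPair (f x) (f y) (coxLabel Bimonster.edges (f x) (f y)) := by
        intro x y; cases x <;> cases y <;> decide +kernel
      rw [hlab]
      exact pairY _ _
    · obtain ⟨n, -, rfl⟩ := List.mem_map.1 hl
      have : (sgn (SW.rotate n)).map (fun a => (f a.1, a.2)) = sgn ((SW.map f).rotate n) := by
        rw [← List.map_rotate]; simp [sgn]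
      rw [this]
      refine wd_rotate ?_ n
      rw [show SW.map f = spiderW 0 1 2 by decide +kernel]
      exact spider123
  let w : List Fi23.Gen :=
    (List.replicate 10 [.d, .c, .b, .d, .h, .i, .d, .e, .f]).flatten
  have hw : wp w = 1 := hker _ ((hπ _).trans (el_one_of_base w (by decide +kernel)))
    (by rw [hε, show (w.length : ZMod 2) = 0 from by decide +kernel, ofAdd_zero])
  have h021 : wd relsY (spiderW 0 2 1) = 1 := by
    have h := congrArg ψ hw
    rw [map_one, wp, wd, hψ, FreeGroup.map.mk] at h
    rw [← h, wd, show (sgn w).map (fun a => (f a.1, a.2)) = sgn (spiderW 0 2 1) by decide +kernel]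
  have hrot : ∀ (l m : List Bimonster.Gen) (n : ℕ), wd relsY l = 1 → l.rotate n = m → wd relsY m = 1 :=
    fun l m n h e => e ▸ wd_rotate h n
  fin_cases i <;> fin_cases j <;> fin_cases k <;> first
    | exact absurd rfl hij
    | exact absurd rfl hjk
    | exact absurd rfl hik
    | exact spider123
    | exact h021
    | exact hrot _ _ 3 spider123 (by decide +kernel)
    | exact hrot _ _ 6 spider123 (by decide +kernel)
    | exact hrot _ _ 3 h021 (by decide +kernel)
    | exact hrot _ _ 6 h021 (by decide +kernel)

/-- The end node of the arm `i` is the ninth power of the Coxeter element. -/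
theorem end_node (i j k : Fin 3) (hij : i ≠ j) (hjk : j ≠ k) (hik : i ≠ k) :
    wd relsY [node i 4] = wd relsY ((List.replicate 9
      [.a, node i 0, node j 0, node k 0, node i 1, node j 1, node i 2]).flatten) := by
  obtain ⟨ψ, hψ⟩ := exists_rename (rels := relsY) RL5 (place i j k) fun l hl => by
    rcases List.mem_append.1 hl with hl | hl
    · obtain ⟨x, -, hl⟩ := List.mem_flatMap.1 hl
      obtain ⟨y, -, rfl⟩ := List.mem_map.1 hl
      have hlab : coxLabel edges5 x y = coxLabel Bimonster.edges (place i j k x) (place i j k y) := by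
        have h : ∀ i j k : Fin 3, (i ≠ j ∧ j ≠ k ∧ i ≠ k) → ∀ x ∈ genList5, ∀ y ∈ genList5,
            coxLabel edges5 x y = coxLabel Bimonster.edges (place i j k x) (place i j k y) := by
          decide +kernel
        exact h i j k ⟨hij, hjk, hik⟩ x (mem_genList5 x) y (mem_genList5 y)
      have hm : ∀ m, (powPair x y m).map (fun a => (place i j k a.1, a.2)) =
          powPair (place i j k x) (place i j k y) m := fun m => by
        induction m with
        | zero => rfl
        | succ m ih => simp [powPair, ih]
      rw [hm, hlab]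
      exact pairY _ _
    · obtain ⟨n, -, rfl⟩ := List.mem_map.1 hl
      have : (sgn ((SW.rotate n).map some)).map (fun a => (place i j k a.1, a.2)) =
          sgn ((SW.map fun x => place i j k (some x)).rotate n) := by
        rw [← List.map_rotate]; simp [sgn]
      rw [this]
      refine wd_rotate ?_ n
      rw [(by decide +kernel : ∀ i j k : Fin 3,
        (SW.map fun x => place i j k (some x)) = spiderW j i k) i j k]
      exact spider_all j i k hij.symm hik hjk
  have h := congrArg ψ arm
  rw [wd, hψ, wd, hψ, FreeGroup.map.mk, FreeGroup.map.mk] at h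
  have h1 : (sgn ([none] : List (Option Fi23.Gen))).map (fun a => (place i j k a.1, a.2)) =
      sgn [node i 4] := rfl
  have h2 : (sgn (W1.map some)).map (fun a => (place i j k a.1, a.2)) = sgn ((List.replicate 9
      [.a, node i 0, node j 0, node k 0, node i 1, node j 1, node i 2]).flatten) :=
    (by decide +kernel : ∀ i j k : Fin 3, (sgn (W1.map some)).map (fun a => (place i j k a.1, a.2)) =
      sgn ((List.replicate 9
        [.a, node i 0, node j 0, node k 0, node i 1, node j 1, node i 2]).flatten)) i j k
  rw [h1, h2] at h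
  exact h

/-- The relator of an end node. -/
theorem end_relator (i j k : Fin 3) (hij : i ≠ j) (hjk : j ≠ k) (hik : i ≠ k)
    (r : FreeGroup Bimonster.Gen)
    (hr : r = FreeGroup.mk (sgn [node i 4]) * (FreeGroup.mk (sgn ((List.replicate 9
      [.a, node i 0, node j 0, node k 0, node i 1, node j 1, node i 2]).flatten)))⁻¹) :
    PresentedGroup.mk relsY r = 1 := by
  rw [hr, map_mul, map_inv, mul_inv_eq_one]
  exact end_node i j k hij hjk hik

end Cfsg.Agent.Fi23Spider
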