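import Cfsg.Agent.Fi23Spider.Util
import Cfsg.Agent.Fi23Spider.X322Levels
import Cfsg.Agent.Fi23Spider.CA.Member
import Cfsg.Agent.Fi23Spider.CB.Member
import Cfsg.Agent.Fi23Mult.Card

/-!
# The double cover given by the spider relation alone

The group `P` on the diagram Y432 with the spider relation alone is `2 × Fi23`: the word
`(abcdefh)^9` is central, and it generates the kernel of the map to Fi23.
-/

set_option autoImplicit false
set_option maxRecDepth 100000
set_option maxHeartbeats 2000000

namespace Cfsg.Agent.Fi23Spider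

open Cfsg.Spor Cfsg.Agent.CosetCert
open Cfsg.Agent.Fi23Centralizer (rels23)
open Cfsg.Agent.Fi23Mult (sgn genList mem_genList lab AS AW US UW SS SW)

/-- All ordered pairs of generators with their relator words. -/
def pairWords : List (List (Fi23.Gen × Bool)) :=
  genList.flatMap fun x => genList.map fun y => powPair x y (coxLabel Fi23.edges x y)

/-- The Coxeter relators and the rotations of the spider word. -/
def RLP : List (List (Fi23.Gen × Bool)) :=
  pairWords ++ (List.range 9).map fun n => sgn (SW.rotate n)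

/-- The group of the spider relation alone. -/
abbrev P : Type := PresentedGroup (wordRels RLP)

/-- The element of a positive word. -/
abbrev wp (l : List Fi23.Gen) : P := wd (wordRels RLP) l

theorem RLP_one : ∀ l ∈ RLP, PresentedGroup.mk rels23 (FreeGroup.mk l) = 1 := by
  intro l hl
  rcases List.mem_append.1 hl with hl | hl
  · obtain ⟨x, -, hl⟩ := List.mem_flatMap.1 hl
    obtain ⟨y, -, rfl⟩ := List.mem_map.1 hl
    rw [mk_powPair, map_pow, map_mul]
    exact Fi23Mult.G_rel x y
  · obtain ⟨n, -, rfl⟩ := List.mem_map.1 hl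
    exact wd_rotate (rels := rels23) Fi23Mult.G_word_S n

theorem pair_one (x y : Fi23.Gen) :
    PresentedGroup.mk (wordRels RLP) (FreeGroup.mk (powPair x y (coxLabel Fi23.edges x y))) = 1 :=
  PresentedGroup.one_of_mem (List.mem_map_of_mem (List.mem_append_left _
    (List.mem_flatMap.2 ⟨x, mem_genList x, List.mem_map_of_mem (mem_genList y)⟩)))

theorem sq_one (x : Fi23.Gen) : wp [x, x] = 1 := by
  have h := pair_one x x
  rw [show coxLabel Fi23.edges x x = 1 from Fi23Mult.lab_self x] at h
  exact h

theorem map_ok {β : Type*} (f : β → Fi23.Gen) (RL : List (List (β × Bool)))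
    (h : (RL.all fun l => decide (l.map (fun a => (f a.1, a.2)) ∈ RLP)) = true) :
    ∀ l ∈ RL, PresentedGroup.mk (wordRels RLP) (FreeGroup.mk (l.map fun a => (f a.1, a.2))) = 1 :=
  fun l hl => PresentedGroup.one_of_mem
    (List.mem_map_of_mem (of_decide_eq_true (List.all_eq_true.1 h l hl)))

/-- The map to Fi23. -/
theorem exists_proj : ∃ π : P →* Fi23, ∀ w, π (PresentedGroup.mk (wordRels RLP) w) =
    PresentedGroup.mk rels23 w := by
  obtain ⟨ψ, hψ⟩ := exists_rename (rels := rels23) RLP id fun l hl => by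
    simpa using RLP_one l hl
  refine ⟨ψ, fun w => ?_⟩
  rw [hψ]
  congr 1
  exact FreeGroup.map.id w

/-- The renaming of a sub-diagram of type E7 onto `abcdefh`. -/
def flipE7 : Fi23.Gen → Fi23.Gen
  | .b => .f | .c => .e | .d => .d | .e => .c | .f => .b | .g => .a | .h => .h
  | x => x

open Fi23Mult in
theorem bound_X : Finite (letterSub (wordRels RLP) L7) ∧
    Nat.card (letterSub (wordRels RLP) L7) ≤ 2903040 := by
  have b2 := letterSub_card_le (rels := wordRels RLP) (flipE7 ∘ W2.ren) (List.finRange 1) W2.subLetters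
    [] rfl List.mem_finRange (map_ok _ W2.relWords (by decide +kernel)) W2.index_bound
    (letterSub_nil_card _)
  have b3 := letterSub_card_le (flipE7 ∘ W3.ren) (List.finRange 2) W3.subLetters _ (by decide +kernel)
    List.mem_finRange (map_ok _ W3.relWords (by decide +kernel)) W3.index_bound b2
  have b4 := letterSub_card_le (flipE7 ∘ W4.ren) (List.finRange 3) W4.subLetters _ (by decide +kernel)
    List.mem_finRange (map_ok _ W4.relWords (by decide +kernel)) W4.index_bound b3
  have b5 := letterSub_card_le (flipE7 ∘ W5.ren) (List.finRange 4) W5.subLetters _ (by decide +kernel)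
    List.mem_finRange (map_ok _ W5.relWords (by decide +kernel)) W5.index_bound b4
  have b16 := letterSub_card_le (flipE7 ∘ W16.ren) (List.finRange 5) W16.subLetters _
    (by decide +kernel) List.mem_finRange (map_ok _ W16.relWords (by decide +kernel)) W16.index_bound b5
  have b27 := letterSub_card_le (flipE7 ∘ W27.ren) (List.finRange 6) W27.subLetters _
    (by decide +kernel) List.mem_finRange (map_ok _ W27.relWords (by decide +kernel)) W27.index_bound b16
  have b56 := letterSub_card_le (flipE7 ∘ W56.ren) (List.finRange 7) W56.subLetters _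
    (by decide +kernel) List.mem_finRange (map_ok _ W56.relWords (by decide +kernel)) W56.index_bound b27
  have hset : letterSub (wordRels RLP) ((List.finRange 7).map (flipE7 ∘ W56.ren)) =
      letterSub (wordRels RLP) L7 := by
    apply congrArg Subgroup.closure
    ext g
    have h1 : ∀ x ∈ (List.finRange 7).map (flipE7 ∘ W56.ren), x ∈ L7 := by decide +kernel
    have h2 : ∀ x ∈ L7, x ∈ (List.finRange 7).map (flipE7 ∘ W56.ren) := by decide +kernel
    exact ⟨fun ⟨b, hb, e⟩ => ⟨b, h1 b hb, e⟩, fun ⟨b, hb, e⟩ => ⟨b, h2 b hb, e⟩⟩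
  rw [hset] at b56
  exact ⟨b56.1, b56.2.trans (by decide)⟩

/-- The generators of the subgroup on the diagram Y322. -/
def L322 : List Fi23.Gen := [.a, .b, .c, .d, .e, .f, .h, .i]

theorem bound_Y : Finite (letterSub (wordRels RLP) L322) ∧
    Nat.card (letterSub (wordRels RLP) L322) ≤ 2 * 4585351680 := by
  have h := letterSub_card_le (rels := wordRels RLP) CA.ren (List.finRange 8) CA.subLetters
    Fi23Mult.L7 (by decide +kernel) List.mem_finRange (map_ok _ CA.relWords (by decide +kernel))
    CA.index_bound bound_X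
  have hset : letterSub (wordRels RLP) ((List.finRange 8).map CA.ren) =
      letterSub (wordRels RLP) L322 := by
    apply congrArg Subgroup.closure
    ext g
    have h1 : ∀ x ∈ (List.finRange 8).map CA.ren, x ∈ L322 := by decide +kernel
    have h2 : ∀ x ∈ L322, x ∈ (List.finRange 8).map CA.ren := by decide +kernel
    exact ⟨fun ⟨b, hb, e⟩ => ⟨b, h1 b hb, e⟩, fun ⟨b, hb, e⟩ => ⟨b, h2 b hb, e⟩⟩
  rw [hset] at h
  exact ⟨h.1, h.2.trans (by decide)⟩

theorem image_low (π : P →* Fi23) (hπ : ∀ w, π (PresentedGroup.mk (wordRels RLP) w) =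
      PresentedGroup.mk rels23 w)
    (l : List Fi23.Gen) (levels : List Data.Level) (n : ℕ)
    (hok : Fi23Index31671.data.LevelsOK [] levels)
    (hlet : (levels.all fun L => L.gens.all fun w => w.all fun x =>
      (l.map Fi23Index31671.enc).contains x) = true)
    (hprod : (levels.map Data.Level.size).prod = n) :
    n ≤ Nat.card ((letterSub (wordRels RLP) l).map π) :=
  hprod ▸ Fi23Mult.lower ((letterSub (wordRels RLP) l).map π) l
    (fun b hb => ⟨_, Subgroup.subset_closure ⟨b, hb, rfl⟩, hπ _⟩) levels hok hlet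

theorem wp_mem {X : Subgroup P} {l : List Fi23.Gen} (h : ∀ x ∈ l, PresentedGroup.of x ∈ X) :
    wp l ∈ X := by
  rw [wp, wd, Fi23Mult.mk_sgn]
  refine X.list_prod_mem fun g hg => ?_
  obtain ⟨x, hx, rfl⟩ := List.mem_map.1 hg
  exact h x hx

theorem el_one_of_base (l : List Fi23.Gen)
    (h : (bases.all fun b => Nat.beq
      (Fi23Index31671.data.fwd ((sgn l).map (Data.code Fi23Index31671.data.iv Fi23Index31671.enc)) b)
      b) = true) : el l = 1 :=
  (el_eq l [] (by simpa [sgn] using h)).trans (map_one _)

/-- `l i l⁻¹ i` and `l g l⁻¹ g` for `l = (abcdefh)^9` are relations, and `l` is central. -/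
theorem cover :
    ∃ (π : P →* Fi23) (ε : P →* Multiplicative (ZMod 2)),
      (∀ w, π (PresentedGroup.mk (wordRels RLP) w) = PresentedGroup.mk rels23 w) ∧
      (∀ l, ε (wp l) = Multiplicative.ofAdd (l.length : ZMod 2)) ∧
      π (wp AW) = 1 ∧ (∀ g : P, g * wp AW = wp AW * g) ∧
      ∀ x, π x = 1 → ε x = 1 → x = 1 := by
  obtain ⟨π, hπ⟩ := exists_proj
  obtain ⟨ε₀, hε₀⟩ := exists_parity RLP (by decide +kernel)
  have hε : ∀ l, ε₀ (wp l) = Multiplicative.ofAdd (l.length : ZMod 2) := fun l => by
    rw [wp, wd, hε₀]; simp [sgn]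
  have hπA : π (wp AW) = 1 := (hπ _).trans Fi23Mult.G_word_A
  have hεA : ε₀ (wp AW) ≠ 1 := by
    rw [hε, show AW.length = 63 from rfl]
    decide
  -- two subgroups that meet the kernel in `⟨l⟩`
  have hX : ∀ x ∈ letterSub (wordRels RLP) Fi23Mult.L7, π x = 1 → ε₀ x = 1 → x = 1 := by
    have := bound_X.1
    intro x hx h1 h2
    exact kernel_two π ε₀ _ (n := 1451520) (by norm_num)
      (image_low π hπ _ Fi23Mult.X7.levels 1451520 Fi23Mult.X7.levels_ok (by decide +kernel)
        (by decide +kernel)) (bound_X.2.trans (by norm_num))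
      (wp_mem fun b hb => Subgroup.subset_closure ⟨b, (by decide +kernel : ∀ x ∈ AW, x ∈ Fi23Mult.L7) b hb, rfl⟩)
      hπA hεA hx h1 h2
  have hY : ∀ x ∈ letterSub (wordRels RLP) L322, π x = 1 → ε₀ x = 1 → x = 1 := by
    have := bound_Y.1
    intro x hx h1 h2
    exact kernel_two π ε₀ _ (n := 4585351680) (by norm_num)
      (image_low π hπ _ X322.levels 4585351680 X322.levels_ok (by decide +kernel)
        (by decide +kernel)) bound_Y.2
      (wp_mem fun b hb => Subgroup.subset_closure ⟨b, (by decide +kernel : ∀ x ∈ AW, x ∈ L322) b hb, rfl⟩)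
      hπA hεA hx h1 h2
  have hrev : ∀ l : List Fi23.Gen, wp l.reverse = (wp l)⁻¹ := wd_rev sq_one
  have hcomm : ∀ x : Fi23.Gen, wp (AW ++ x :: (AW.reverse ++ [x])) = 1 →
      Commute (wp AW) (PresentedGroup.of x : P) := by
    intro x h
    rw [show AW ++ x :: (AW.reverse ++ [x]) = AW ++ ([x] ++ (AW.reverse ++ [x])) from rfl, wp,
      wd_append, wd_append, wd_append, wd_single, wd_rev sq_one] at h
    have hx : (PresentedGroup.of x : P) * PresentedGroup.of x = 1 := by
      have := sq_one x
      rwa [wp, show [x, x] = [x] ++ [x] from rfl, wd_append, wd_single] at this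
    show wp AW * PresentedGroup.of x = PresentedGroup.of x * wp AW
    have h2 : wp AW * (PresentedGroup.of x : P) * (wp AW)⁻¹ = (PresentedGroup.of x : P)⁻¹ :=
      eq_inv_of_mul_eq_one_left (by simpa [mul_assoc] using h)
    rw [← eq_inv_of_mul_eq_one_left hx] at h2
    exact mul_inv_eq_iff_eq_mul.1 h2
  have hbase : ∀ x : Fi23.Gen, π (wp (AW ++ x :: (AW.reverse ++ [x]))) = 1 := by
    intro x
    have hA : (PresentedGroup.mk rels23 (FreeGroup.mk (sgn AW)) : Fi23) = 1 := Fi23Mult.G_word_A
    have hsq : ∀ x, wd rels23 [x, x] = 1 := Fi23Mult.G_sq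
    rw [hπ]
    show wd rels23 (AW ++ ([x] ++ (AW.reverse ++ [x]))) = 1
    rw [wd_append, wd_append, wd_append, wd_rev hsq, show wd rels23 AW = 1 from hA, inv_one, one_mul,
      one_mul, wd_single]
    exact Fi23Mult.G_sq x
  have hεc : ∀ x : Fi23.Gen, ε₀ (wp (AW ++ x :: (AW.reverse ++ [x]))) = 1 := by
    intro x
    rw [hε]
    simp only [List.length_append, List.length_cons, List.length_reverse, List.length_nil,
      show AW.length = 63 from rfl]
    rfl
  -- `i`
  have hi : Commute (wp AW) (PresentedGroup.of Fi23.Gen.i : P) := by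
    apply hcomm
    refine hX _ ?_ (hbase _) (hεc _)
    have hm := member_map CA.ren CA.subLetters Fi23Mult.L7 (by decide +kernel)
      (map_ok _ CA.relWords (by decide +kernel)) CA.word CA.member
    rw [show CA.word.map (fun a => (CA.ren a.1, a.2)) = sgn (Fi23.Gen.i :: (AW ++ [Fi23.Gen.i]))
      by decide +kernel] at hm
    have hAX : wp AW ∈ letterSub (wordRels RLP) Fi23Mult.L7 :=
      wp_mem fun b hb => Subgroup.subset_closure ⟨b, (by decide +kernel : ∀ x ∈ AW, x ∈ Fi23Mult.L7) b hb, rfl⟩
    have hm2 : wp [Fi23.Gen.i] * (wp AW * wp [Fi23.Gen.i]) ∈ letterSub (wordRels RLP) Fi23Mult.L7 := by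
      rw [← wd_append, ← wd_append]
      exact hm
    have hm' := inv_mem hm2
    rw [mul_inv_rev, mul_inv_rev, ← hrev, ← hrev] at hm'
    show wp (AW ++ ([Fi23.Gen.i] ++ (AW.reverse ++ [Fi23.Gen.i]))) ∈ _
    rw [wp, wd_append, wd_append, wd_append]
    refine mul_mem hAX ?_
    simpa [mul_assoc] using hm'
  -- `g`
  have hg : Commute (wp AW) (PresentedGroup.of Fi23.Gen.g : P) := by
    apply hcomm
    refine hY _ ?_ (hbase _) (hεc _)
    have hrels : ∀ l ∈ CB.relWords, PresentedGroup.mk (wordRels RLP)
        (FreeGroup.mk (l.map fun a => (CB.ren a.1, a.2))) = 1 := by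
      intro l hl
      have h0 : (CB.relWords.all fun l => decide (l.map (fun a => (CB.ren a.1, a.2)) ∈ RLP ∨
          l.map (fun a => (CB.ren a.1, a.2)) =
            sgn (AW ++ Fi23.Gen.i :: (AW.reverse ++ [Fi23.Gen.i])))) = true := by decide +kernel
      rcases of_decide_eq_true (List.all_eq_true.1 h0 l hl) with h | h
      · exact PresentedGroup.one_of_mem (List.mem_map_of_mem h)
      · rw [h]
        show wp (AW ++ ([Fi23.Gen.i] ++ (AW.reverse ++ [Fi23.Gen.i]))) = 1
        have hii : (PresentedGroup.of Fi23.Gen.i : P) * PresentedGroup.of Fi23.Gen.i = 1 := by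
          have := sq_one .i
          rwa [wp, show [Fi23.Gen.i, Fi23.Gen.i] = [Fi23.Gen.i] ++ [Fi23.Gen.i] from rfl, wd_append,
            wd_single] at this
        rw [wp, wd_append, wd_append, wd_append, wd_rev sq_one, wd_single]
        show wp AW * (PresentedGroup.of Fi23.Gen.i * ((wp AW)⁻¹ * PresentedGroup.of Fi23.Gen.i)) = 1
        rw [← mul_assoc, hi.eq, mul_assoc, mul_inv_cancel_left, hii]
    have hm := member_map CB.ren CB.subLetters L322 (by decide +kernel) hrels CB.word CB.member
    rw [show CB.word.map (fun a => (CB.ren a.1, a.2)) = sgn (Fi23.Gen.g :: (AW ++ [Fi23.Gen.g]))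
      by decide +kernel] at hm
    have hAX : wp AW ∈ letterSub (wordRels RLP) L322 :=
      wp_mem fun b hb => Subgroup.subset_closure ⟨b, (by decide +kernel : ∀ x ∈ AW, x ∈ L322) b hb, rfl⟩
    have hm2 : wp [Fi23.Gen.g] * (wp AW * wp [Fi23.Gen.g]) ∈ letterSub (wordRels RLP) L322 := by
      rw [← wd_append, ← wd_append]
      exact hm
    have hm' := inv_mem hm2
    rw [mul_inv_rev, mul_inv_rev, ← hrev, ← hrev] at hm'
    show wp (AW ++ ([Fi23.Gen.g] ++ (AW.reverse ++ [Fi23.Gen.g]))) ∈ _
    rw [wp, wd_append, wd_append, wd_append]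
    refine mul_mem hAX ?_
    simpa [mul_assoc] using hm'
  -- `l` is central
  have hlet : ∀ x : Fi23.Gen, Commute (wp AW) (PresentedGroup.of x : P) := by
    intro x
    by_cases hxX : x ∈ Fi23Mult.L7
    · apply hcomm
      refine hX _ (wp_mem fun b hb => Subgroup.subset_closure ⟨b, ?_, rfl⟩) (hbase _) (hεc _)
      simp only [List.mem_append, List.mem_cons, List.mem_reverse, List.not_mem_nil, or_false] at hb
      have h7 : ∀ y ∈ AW, y ∈ Fi23Mult.L7 := by decide +kernel
      rcases hb with hb | hb | hb | hb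
      · exact h7 b hb
      · rw [hb]; exact hxX
      · exact h7 b hb
      · rw [hb]; exact hxX
    · have hcases : x = .g ∨ x = .j ∨ x = .i := by
        cases x <;> first | exact absurd (by decide +kernel) hxX | tauto
      rcases hcases with rfl | rfl | rfl
      · exact hg
      · have hjy : ∀ y ∈ AW, Commute (PresentedGroup.of y : P) (PresentedGroup.of Fi23.Gen.j) := by
          intro y hy
          have hlab : coxLabel Fi23.edges y .j = 2 :=
            (by decide +kernel : ∀ y ∈ AW, coxLabel Fi23.edges y .j = 2) y hy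
          have h := pair_one y .j
          rw [hlab] at h
          have h' : wp [y, .j, y, .j] = 1 := h
          have hy2 : wp [y] * wp [y] = 1 := by rw [← wd_append]; exact sq_one y
          have hj2 : wp [Fi23.Gen.j] * wp [Fi23.Gen.j] = 1 := by rw [← wd_append]; exact sq_one _
          rw [show [y, Fi23.Gen.j, y, .j] = [y] ++ ([Fi23.Gen.j] ++ ([y] ++ [Fi23.Gen.j])) from rfl,
            wp, wd_append, wd_append, wd_append] at h'
          show wp [y] * wp [Fi23.Gen.j] = wp [Fi23.Gen.j] * wp [y]
          calc wp [y] * wp [Fi23.Gen.j] = wp [y] * (wp [Fi23.Gen.j] * (wp [y] * wp [Fi23.Gen.j])) *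
                (wp [Fi23.Gen.j] * wp [y]) := by
                simp only [mul_assoc]
                rw [← mul_assoc (wp [Fi23.Gen.j]) (wp [Fi23.Gen.j]) (wp [y]), hj2, one_mul, hy2, mul_one]
            _ = wp [Fi23.Gen.j] * wp [y] := by rw [h', one_mul]
        show Commute (PresentedGroup.mk (wordRels RLP) (FreeGroup.mk (sgn AW))) _
        rw [Fi23Mult.mk_sgn]
        refine Commute.list_prod_left _ _ fun g hg => ?_
        obtain ⟨y, hy, rfl⟩ := List.mem_map.1 hg
        exact hjy y hy
      · exact hi
  have hcen : ∀ g : P, g * wp AW = wp AW * g := by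
    intro g
    have hg : g ∈ Subgroup.closure (Set.range (PresentedGroup.of : Fi23.Gen → P)) := by
      rw [PresentedGroup.closure_range_of]; trivial
    have hle : Subgroup.closure (Set.range (PresentedGroup.of : Fi23.Gen → P)) ≤
        Subgroup.centralizer ({wp AW} : Set P) := by
      rw [Subgroup.closure_le]
      rintro _ ⟨x, rfl⟩
      rw [SetLike.mem_coe, Subgroup.mem_centralizer_singleton_iff]
      exact (hlet x).symm.eq
    exact Subgroup.mem_centralizer_singleton_iff.1 (hle hg)
  -- the kernel
  have hN : (Subgroup.zpowers (wp AW)).Normal := ⟨fun z hz g => by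
    obtain ⟨m, rfl⟩ := Subgroup.mem_zpowers_iff.1 hz
    have hc : Commute g ((wp AW) ^ m) := Commute.zpow_right (hcen g) m
    rw [hc.eq, mul_inv_cancel_right]
    exact Subgroup.zpow_mem_zpowers _ _⟩
  have hrels : ∀ r ∈ rels23, FreeGroup.lift
      (fun x => ((PresentedGroup.of x : P) : P ⧸ Subgroup.zpowers (wp AW))) r = 1 := by
    have hcomp : FreeGroup.lift (fun x => ((PresentedGroup.of x : P) : P ⧸ Subgroup.zpowers (wp AW))) =
        (QuotientGroup.mk' (Subgroup.zpowers (wp AW))).comp (PresentedGroup.mk (wordRels RLP)) :=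
      FreeGroup.ext_hom _ _ fun x => by simp [PresentedGroup.of]
    intro r hr
    rw [hcomp, MonoidHom.comp_apply, QuotientGroup.mk'_apply, QuotientGroup.eq_one_iff]
    rcases hr with ⟨x, -, y, -, rfl⟩ | hr
    · rw [← mk_powPair, pair_one]; exact one_mem _
    · have he : Fi23.extra = [FreeGroup.mk (sgn SW), FreeGroup.mk (sgn AW)] := by decide +kernel
      simp only [Set.mem_ofPred_eq, he, List.mem_cons, List.not_mem_nil, or_false] at hr
      rcases hr with rfl | rfl
      · have hS : sgn SW ∈ RLP := by decide +kernel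
        rw [PresentedGroup.one_of_mem (rels := wordRels RLP) (List.mem_map_of_mem hS)]
        exact one_mem _
      · exact Subgroup.mem_zpowers _
  have hback : ∀ x : P, π x = 1 → x ∈ Subgroup.zpowers (wp AW) := by
    intro x hx
    rw [← QuotientGroup.eq_one_iff]
    have hid : (PresentedGroup.toGroup hrels).comp π = QuotientGroup.mk' (Subgroup.zpowers (wp AW)) := by
      apply PresentedGroup.ext
      intro y
      rw [MonoidHom.comp_apply, PresentedGroup.of, hπ, QuotientGroup.mk'_apply]
      exact PresentedGroup.toGroup.of hrels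
    have := DFunLike.congr_fun hid x
    rw [MonoidHom.comp_apply, hx, map_one] at this
    exact this.symm
  refine ⟨π, ε₀, hπ, hε, hπA, hcen, fun x hx hxε => hX x ?_ hx hxε⟩
  have hAX : wp AW ∈ letterSub (wordRels RLP) Fi23Mult.L7 :=
    wp_mem fun b hb => Subgroup.subset_closure ⟨b,
      (by decide +kernel : ∀ x ∈ AW, x ∈ Fi23Mult.L7) b hb, rfl⟩
  exact (Subgroup.zpowers_le.2 hAX) (hback x hx)

end Cfsg.Agent.Fi23Spider
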