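import Cfsg.Agent.Fi23Spider.Base
import Cfsg.Agent.CosetCert.Chain

/-!
Positive words, parity, and kernels of order two.
-/

set_option autoImplicit false

namespace Cfsg.Agent.Fi23Spider

open Cfsg.Spor Cfsg.Agent.CosetCert
open Cfsg.Agent.Fi23Mult (sgn)

section generic

variable {β : Type*} {rels : Set (FreeGroup β)}

/-- The element of a positive word. -/
abbrev wd (rels : Set (FreeGroup β)) (l : List β) : PresentedGroup rels :=
  PresentedGroup.mk rels (FreeGroup.mk (sgn l))

theorem sgn_append (l m : List β) : sgn (l ++ m) = sgn l ++ sgn m := List.map_append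

theorem wd_append (l m : List β) : wd rels (l ++ m) = wd rels l * wd rels m := by
  rw [wd, sgn_append, ← FreeGroup.mul_mk, map_mul]

theorem wd_single (x : β) : wd rels [x] = PresentedGroup.of x := rfl

theorem wd_rev (hsq : ∀ x, wd rels [x, x] = 1) (l : List β) :
    wd rels l.reverse = (wd rels l)⁻¹ := by
  induction l with
  | nil => exact (eq_inv_of_mul_eq_one_left (by rw [← wd_append]; exact map_one _))
  | cons x l ih =>
    have h : wd rels [x] = (wd rels [x])⁻¹ :=
      eq_inv_of_mul_eq_one_left (by rw [← wd_append]; exact hsq x)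
    rw [List.reverse_cons, wd_append, ih, show x :: l = [x] ++ l from rfl, wd_append, mul_inv_rev,
      ← h]

theorem wd_rotate {l : List β} (h : wd rels l = 1) (n : ℕ) : wd rels (l.rotate n) = 1 := by
  rw [List.rotate_eq_drop_append_take_mod, wd_append]
  rw [← List.take_append_drop (n % l.length) l, wd_append] at h
  exact mul_eq_one_comm.1 h

variable [DecidableEq β]

/-- A renaming of generators maps a subgroup on some generators into the subgroup on their names. -/
theorem member_map {γ : Type*} {relsC : Set (FreeGroup γ)} {RL : List (List (β × Bool))}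
    (f : β → γ) (S : List β) (next : List γ) (hnext : S.map f = next)
    (h : ∀ l ∈ RL, PresentedGroup.mk relsC (FreeGroup.mk (l.map fun a => (f a.1, a.2))) = 1)
    (l : List (β × Bool))
    (hm : PresentedGroup.mk (wordRels RL) (FreeGroup.mk l) ∈
      Data.sub (wordRels RL) (S.map FreeGroup.of)) :
    PresentedGroup.mk relsC (FreeGroup.mk (l.map fun a => (f a.1, a.2))) ∈ letterSub relsC next := by
  obtain ⟨ψ, hψ⟩ := exists_rename RL f h
  have hH : (Data.sub (wordRels RL) (S.map FreeGroup.of)).map ψ ≤ letterSub relsC next := by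
    rw [Data.sub, Subgroup.map_map, MonoidHom.map_closure, Subgroup.closure_le]
    rintro _ ⟨w, hw, rfl⟩
    obtain ⟨b, hb, rfl⟩ := List.mem_map.1 hw
    apply Subgroup.subset_closure
    refine ⟨f b, hnext ▸ List.mem_map_of_mem hb, ?_⟩
    rw [MonoidHom.comp_apply, hψ, FreeGroup.map.of]; rfl
  have h2 := hH (Subgroup.mem_map_of_mem ψ hm)
  rw [hψ, FreeGroup.map.mk] at h2
  exact h2

omit [DecidableEq β] in
/-- Presentations by even words have a parity. -/
theorem exists_parity (RL : List (List (β × Bool)))
    (h : (RL.all fun l => l.length % 2 == 0) = true) :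
    ∃ ε : PresentedGroup (wordRels RL) →* Multiplicative (ZMod 2),
      ∀ l, ε (PresentedGroup.mk (wordRels RL) (FreeGroup.mk l)) =
        Multiplicative.ofAdd (l.length : ZMod 2) := by
  have hl : ∀ l : List (β × Bool),
      FreeGroup.lift (fun _ : β => Multiplicative.ofAdd (1 : ZMod 2)) (FreeGroup.mk l) =
        Multiplicative.ofAdd (l.length : ZMod 2) := fun l => by
    induction l with
    | nil => rfl
    | cons a l ih =>
      rw [show a :: l = [a] ++ l from rfl, ← FreeGroup.mul_mk, map_mul, ih, List.length_append,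
        Nat.cast_add, ofAdd_add]
      congr 1
      obtain ⟨b, _ | _⟩ := a <;> rfl
  have hr : ∀ r ∈ wordRels RL,
      FreeGroup.lift (fun _ : β => Multiplicative.ofAdd (1 : ZMod 2)) r = 1 := by
    intro r hr
    obtain ⟨l, hl', rfl⟩ := List.mem_map.1 hr
    have h2 : l.length % 2 = 0 := eq_of_beq (List.all_eq_true.1 h l hl')
    rw [hl, (ZMod.natCast_eq_zero_iff_even).2 (Nat.even_iff.2 h2), ofAdd_zero]
  refine ⟨PresentedGroup.toGroup hr, fun l => ?_⟩
  rw [← hl]
  exact DFunLike.congr_fun (show (PresentedGroup.toGroup hr).comp (PresentedGroup.mk _) =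
    FreeGroup.lift _ from FreeGroup.ext_hom _ _ fun b => by
      simp only [MonoidHom.comp_apply, FreeGroup.lift_apply_of]
      exact PresentedGroup.toGroup.of hr) (FreeGroup.mk l)

end generic

/-- A kernel of order at most two is seen by the parity. -/
theorem kernel_two {P Q : Type*} [Group P] [Group Q] (π : P →* Q) (ε : P →* Multiplicative (ZMod 2))
    (X : Subgroup P) [Finite X] {n : ℕ} (hn : 0 < n) (hlow : n ≤ Nat.card (X.map π))
    (hup : Nat.card X ≤ 2 * n) {l x : P} (hlX : l ∈ X) (hlπ : π l = 1) (hlε : ε l ≠ 1)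
    (hx : x ∈ X) (hxπ : π x = 1) (hxε : ε x = 1) : x = 1 := by
  have hsurj : Function.Surjective (π.subgroupMap X) := π.subgroupMap_surjective X
  have hcard : Nat.card X = Nat.card (π.subgroupMap X).ker * Nat.card (X.map π) := by
    rw [← (π.subgroupMap X).ker.card_mul_index, Subgroup.index_ker,
      MonoidHom.range_eq_top.2 hsurj, Nat.card_congr Subgroup.topEquiv.toEquiv]
  have hk : Nat.card (π.subgroupMap X).ker ≤ 2 := by
    refine Nat.le_of_mul_le_mul_right ?_ hn
    exact ((Nat.mul_le_mul_left _ hlow).trans hcard.ge).trans hup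
  let lk : (π.subgroupMap X).ker := ⟨⟨l, hlX⟩, Subtype.ext hlπ⟩
  let xk : (π.subgroupMap X).ker := ⟨⟨x, hx⟩, Subtype.ext hxπ⟩
  by_contra hne
  have h1 : lk ≠ 1 := fun h => hlε (by
    rw [show l = 1 from congrArg (fun z : (π.subgroupMap X).ker => ((z : X) : P)) h, map_one])
  have h2 : xk ≠ 1 := fun h => hne (congrArg (fun z : (π.subgroupMap X).ker => ((z : X) : P)) h)
  have h3 : lk ≠ xk := fun h => hlε (by
    rw [show l = x from congrArg (fun z : (π.subgroupMap X).ker => ((z : X) : P)) h, hxε])
  classical
  have : Fintype (π.subgroupMap X).ker := Fintype.ofFinite _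
  have h4 : ({1, lk, xk} : Finset (π.subgroupMap X).ker).card = 3 :=
    Finset.card_eq_three.2 ⟨1, lk, xk, h1.symm, h2.symm, h3, rfl⟩
  have h5 := Finset.card_le_univ ({1, lk, xk} : Finset (π.subgroupMap X).ker)
  rw [h4, ← Nat.card_eq_fintype_card] at h5
  omega

end Cfsg.Agent.Fi23Spider
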